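import Groth.Agent.EtGabber.TrivCover
import Groth.Agent.S0167
import Groth.Agent.S0240
import Groth.Agent.S14622
import Groth.Agent.Et18.BaseChange0Stalk
import Groth.Agent.Et18.FinitePush
import Groth.Agent.Et18.HpullExact

/-!
# `H¹` of the closed fibre of a proper scheme over a henselian local ring
-/

set_option autoImplicit false
set_option linter.all false
set_option backward.isDefEq.respectTransparency.types false
set_option backward.isDefEq.respectTransparency false
set_option synthInstance.maxHeartbeats 400000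
set_option maxHeartbeats 1000000

universe u

open CategoryTheory CategoryTheory.Limits AlgebraicGeometry Opposite CategoryTheory.Abelian
open Groth.Agent.Et18 Groth.Agent.EtMV

namespace Groth.Agent.EtProperH1

variable {X₀ X : Scheme.{u}} (i : X₀ ⟶ X)

/-- Morphisms out of `ℤ` restrict bijectively. -/
def HomBij : Prop :=
  ∀ F : EtCoh.Ab X, Function.Bijective fun g : ZZ X ⟶ F => (EtCoh.pull i).map g

theorem homBij_of_unit
    (h : ∀ F : EtCoh.Ab X, Function.Bijective
      (((EtCoh.pullPushAdj i).unit.app F).hom.app (op (EtCoh.top X)))) : HomBij i := by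
  intro F
  haveI : IsIso ((EtCore.gsec X).map ((EtCoh.pullPushAdj i).unit.app F)) :=
    (ConcreteCategory.isIso_iff_bijective _).2 (h F)
  let A := AddCommGrpCat.of (ULift.{u + 1} ℤ)
  have hc : Function.Bijective fun g : ZZ X ⟶ F => g ≫ (EtCoh.pullPushAdj i).unit.app F := by
    have e : (fun g : ZZ X ⟶ F => g ≫ (EtCoh.pullPushAdj i).unit.app F) =
        ((EtCore.constAdj X).homEquiv A _).symm ∘
          (fun t => t ≫ (EtCore.gsec X).map ((EtCoh.pullPushAdj i).unit.app F)) ∘
          ((EtCore.constAdj X).homEquiv A F) := by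
      funext g
      simp only [Function.comp_apply]
      rw [← Adjunction.homEquiv_naturality_right, Equiv.symm_apply_apply]
    rw [e]
    exact (Equiv.bijective _).comp
      ((((Iso.homToEquiv (asIso ((EtCore.gsec X).map ((EtCoh.pullPushAdj i).unit.app F)))).bijective)).comp
        (Equiv.bijective _))
  have e2 : (fun g : ZZ X ⟶ F => (EtCoh.pull i).map g) =
      ((EtCoh.pullPushAdj i).homEquiv (ZZ X) _).symm ∘ fun g => g ≫ (EtCoh.pullPushAdj i).unit.app F := by
    funext g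
    simp only [Function.comp_apply]
    rw [Adjunction.homEquiv_counit, Functor.map_comp, Category.assoc]
    exact ((congrArg (fun t => (EtCoh.pull i).map g ≫ t)
      ((EtCoh.pullPushAdj i).left_triangle_components F)).trans (Category.comp_id _)).symm
  rw [e2]
  exact (Equiv.bijective _).comp hc

variable [PreservesFiniteLimits (EtCoh.pull i)]

theorem injective_mapExact_one (hi : HomBij i) (F : EtCoh.Ab X) :
    Function.Injective fun ξ : Ext (ZZ X) F 1 => ξ.mapExactFunctor (EtCoh.pull i) := by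
  refine (injective_iff_map_eq_zero ((EtCoh.pull i).mapExtAddHom (ZZ X) F 1)).2 fun ξ hξ => ?_
  let S := SiteCoh.injEmbed F
  have hS := SiteCoh.injEmbed_shortExact F
  haveI : Injective S.X₂ := inferInstanceAs (Injective (Injective.under F))
  obtain ⟨θ, rfl⟩ := Ext.covariant_sequence_exact₁ (ZZ X) hS ξ (Ext.eq_zero_of_injective _) (rfl : 0 + 1 = 0 + 1)
  obtain ⟨q, rfl⟩ := (Ext.mk₀_bijective _ _).2 θ
  change ((Ext.mk₀ q).comp hS.extClass rfl).mapExactFunctor (EtCoh.pull i) = 0 at hξ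
  rw [Ext.mapExactFunctor_comp, Ext.mapExactFunctor_mk₀, Ext.mapExactFunctor_extClass] at hξ
  obtain ⟨y, hy⟩ := Ext.covariant_sequence_exact₃ _ (hS.map_of_exact (EtCoh.pull i)) _ rfl hξ
  obtain ⟨l₀, rfl⟩ := (Ext.mk₀_bijective _ _).2 y
  obtain ⟨l, hl⟩ := (hi S.X₂).2 l₀
  change (EtCoh.pull i).map l = l₀ at hl
  rw [Ext.mk₀_comp_mk₀] at hy
  have h2 : l ≫ S.g = q := (hi S.X₃).1 (by
    show (EtCoh.pull i).map (l ≫ S.g) = _
    rw [Functor.map_comp, hl]
    exact (Ext.mk₀_bijective _ _).1 hy)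
  rw [← h2, ← Ext.mk₀_comp_mk₀_assoc]
  exact (congrArg (fun z => (Ext.mk₀ l).comp z (zero_add 1)) hS.comp_extClass).trans
    (Ext.comp_zero (Ext.mk₀ l) _ _ _ (zero_add 1))

/-- Classes killed by a map that is injective after pulling back come from the whole scheme. -/
theorem mem_range_of_killed (hi : HomBij i) {F G : EtCoh.Ab X} (η : F ⟶ G) [Mono η]
    (ξ₀ : Ext ((EtCoh.pull i).obj (ZZ X)) ((EtCoh.pull i).obj F) 1)
    (h : ξ₀.comp (Ext.mk₀ ((EtCoh.pull i).map η)) (add_zero 1) = 0) :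
    ∃ ξ : Ext (ZZ X) F 1, ξ.mapExactFunctor (EtCoh.pull i) = ξ₀ := by
  let S : ShortComplex (EtCoh.Ab X) := ShortComplex.mk η (cokernel.π η) (cokernel.condition η)
  have hS : S.ShortExact := { exact := ShortComplex.exact_cokernel η }
  obtain ⟨y, rfl⟩ := Ext.covariant_sequence_exact₁ _ (hS.map_of_exact (EtCoh.pull i)) ξ₀ h (rfl : 0 + 1 = 0 + 1)
  obtain ⟨q₀, rfl⟩ := (Ext.mk₀_bijective _ _).2 y
  obtain ⟨q, hq⟩ := (hi S.X₃).2 q₀
  refine ⟨(Ext.mk₀ q).comp hS.extClass rfl, ?_⟩
  rw [Ext.mapExactFunctor_comp, Ext.mapExactFunctor_mk₀, Ext.mapExactFunctor_extClass]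
  exact congrArg (fun z => (Ext.mk₀ z).comp (hS.map_of_exact (EtCoh.pull i)).extClass rfl) hq

/-- A class killed by pullback along a finite morphism is killed by any map to the direct image. -/
theorem comp_push_eq_zero {V₀ : Scheme.{u}} (π : V₀ ⟶ X₀) [IsFinite π] {P F : EtCoh.Ab X₀} {N : EtCoh.Ab V₀}
    (a : F ⟶ (EtCoh.push π).obj N) (ξ : Ext P F 1) (h : ξ.mapExactFunctor (EtCoh.pull π) = 0) :
    ξ.comp (Ext.mk₀ a) (add_zero 1) = 0 := by
  haveI : (EtCoh.push π).PreservesHomology := push_preservesHomology_of_integral π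
  have hb := EtCmp.bijective_adjExtHom (EtCoh.pullPushAdj π) P 1 N (fun q hq => by
    obtain ⟨k, rfl⟩ : ∃ k, q = k + 1 := ⟨q - 1, by omega⟩
    exact isZero_rightDerived_of_preservesHomology (EtCoh.push π) k N)
  apply hb.1
  rw [map_zero, EtCmp.adjExtHom_apply, Ext.mapExactFunctor_comp, h, Ext.zero_comp, Ext.zero_comp]

/-- The main statement. -/
theorem bijective_mapExact_one (hi : HomBij i)
    (hlift : ∀ {V₀ : Scheme.{u}} (π₀ : V₀ ⟶ X₀) [IsFinite π₀] [Etale π₀] [Surjective π₀],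
      ∃ (V : Scheme.{u}) (π : V ⟶ X) (_ : IsFinite π) (_ : Surjective π) (k : V₀ ⟶ V), IsPullback k π₀ π i)
    (M : AddCommGrpCat.{u + 1}) [Finite M] :
    Function.Bijective fun ξ : Ext (ZZ X) ((cst X).obj M) 1 => ξ.mapExactFunctor (EtCoh.pull i) := by
  refine ⟨injective_mapExact_one i hi _, fun ξ₀ => ?_⟩
  let eM := (EtCore.pullConstIso i).app M
  let eZ := EtCore.pullConst i ℤ
  let ξ' : Ext (ZZ X₀) ((cst X₀).obj M) 1 :=
    (Ext.mk₀ eZ.inv).comp (ξ₀.comp (Ext.mk₀ eM.hom) (add_zero 1)) (zero_add 1)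
  obtain ⟨T, hfin, hsurj, hT⟩ := EtGabber.exists_trivializing M ξ'
  haveI := hfin
  haveI := hsurj
  haveI : Etale T.hom := T.prop
  obtain ⟨V, π, hπf, hπs, k, hk⟩ := hlift T.hom
  haveI := hπf
  haveI := hπs
  let η := (EtCoh.pullPushAdj π).unit.app ((cst X).obj M)
  haveI : Mono η := Groth.Agent.S14622.result π _
  haveI := isIso_baseChange0_of_isFinite π i T.hom k hk ((EtCoh.pull π).obj ((cst X).obj M))
  let β := EtCoh.baseChange0 π i T.hom k hk.w ((EtCoh.pull π).obj ((cst X).obj M))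
  have hξ₀ : ξ₀.mapExactFunctor (EtCoh.pull T.hom) = 0 := by
    have e : ξ₀ = (Ext.mk₀ eZ.hom).comp (ξ'.comp (Ext.mk₀ eM.inv) (add_zero 1)) (zero_add 1) := by
      simp only [ξ']
      rw [Ext.comp_assoc_of_third_deg_zero, Ext.comp_assoc_of_third_deg_zero, Ext.mk₀_comp_mk₀,
        Iso.hom_inv_id, Ext.comp_mk₀_id, Ext.mk₀_comp_mk₀_assoc, Iso.hom_inv_id, Ext.mk₀_id_comp]
    rw [e, Ext.mapExactFunctor_comp, Ext.mapExactFunctor_comp, hT, Ext.zero_comp, Ext.comp_zero]
  refine mem_range_of_killed i hi η ξ₀ ?_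
  have h0 := comp_push_eq_zero T.hom ((EtCoh.pull i).map η ≫ β) ξ₀ hξ₀
  have h1 : ((EtCoh.pull i).map η ≫ β) ≫ inv β = (EtCoh.pull i).map η := by simp
  rw [← h1, ← Ext.mk₀_comp_mk₀, ← Ext.comp_assoc_of_third_deg_zero, h0, Ext.zero_comp]

theorem Hpull_bijective_of_mapExact (F : EtCoh.Ab X)
    (h : Function.Bijective fun ξ : Ext (ZZ X) F 1 => ξ.mapExactFunctor (EtCoh.pull i)) :
    Function.Bijective (EtCore.Hpull i F 1) := by
  let e := EtCore.pullConst i ℤ
  have hpre : Function.Bijective fun x : Ext ((EtCoh.pull i).obj (ZZ X)) ((EtCoh.pull i).obj F) 1 =>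
      (Ext.mk₀ e.inv).comp x (zero_add 1) := by
    refine Function.bijective_iff_has_inverse.2
      ⟨fun x => (Ext.mk₀ e.hom).comp x (zero_add 1), fun x => ?_, fun x => ?_⟩
    · show (Ext.mk₀ e.hom).comp ((Ext.mk₀ e.inv).comp x _) _ = x
      rw [Ext.mk₀_comp_mk₀_assoc, Iso.hom_inv_id, Ext.mk₀_id_comp]
    · show (Ext.mk₀ e.inv).comp ((Ext.mk₀ e.hom).comp x _) _ = x
      rw [Ext.mk₀_comp_mk₀_assoc, Iso.inv_hom_id, Ext.mk₀_id_comp]
  exact hpre.comp h

/-- Finite étale covers of the closed fibre lift to surjective covers. -/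
theorem exists_lift_cover (A : Type u) [CommRing A] [HenselianLocalRing A] (f : X ⟶ Spec (CommRingCat.of A))
    [IsProper f] {V₀ : Scheme.{u}}
    (π₀ : V₀ ⟶ pullback f (Spec.map (CommRingCat.ofHom (IsLocalRing.residue A))))
    [IsFinite π₀] [Etale π₀] [Surjective π₀] :
    ∃ (V : Scheme.{u}) (π : V ⟶ X) (_ : IsFinite π) (_ : Surjective π) (k : V₀ ⟶ V),
      IsPullback k π₀ π (pullback.fst f (Spec.map (CommRingCat.ofHom (IsLocalRing.residue A)))) := by
  let j := pullback.fst f (Spec.map (CommRingCat.ofHom (IsLocalRing.residue A)))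
  haveI := Groth.Agent.S0240.result A f
  let R := FEt.restrict j
  let Z : FEt.Cat _ := MorphismProperty.Over.mk ⊤ π₀ ⟨inferInstance, inferInstance⟩
  let Y := R.objPreimage Z
  let e : R.obj Y ≅ Z := R.objObjPreimageIso Z
  haveI : IsFinite Y.hom := Y.prop.1
  haveI : Etale Y.hom := Y.prop.2
  have hw : e.inv.left ≫ (R.obj Y).hom = π₀ := MorphismProperty.Over.w e.inv
  have hpb : IsPullback ((e.inv.left : V₀ ⟶ (R.obj Y).left) ≫ pullback.fst Y.hom j) π₀ Y.hom j := by
    haveI : IsIso e.inv.left :=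
      ((MorphismProperty.Over.forget _ ⊤ _ ⋙ Over.forget _).mapIso e.symm).isIso_hom
    exact IsPullback.of_iso (IsPullback.of_hasPullback Y.hom j)
      (asIso e.inv.left).symm (Iso.refl _) (Iso.refl _) (Iso.refl _) (by simp)
      (by show pullback.snd Y.hom j ≫ 𝟙 _ = inv e.inv.left ≫ π₀; exact (Category.comp_id _).trans ((IsIso.eq_inv_comp e.inv.left).2 hw))
      (by simp) (by simp)
  haveI : Surjective Y.hom := by
    refine ⟨fun x => ?_⟩
    have hcl : IsClosed (Set.range Y.hom) := Y.hom.isClosedMap.isClosed_range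
    have hop : IsOpen (Set.range Y.hom) := Y.hom.isOpenMap.isOpen_range
    haveI : CompactSpace X := QuasiCompact.compactSpace_of_compactSpace f
    have key : ∀ z : X, IsClosed ({z} : Set X) → z ∈ Set.range Y.hom := fun z hz => by
      have hfz : f z = IsLocalRing.closedPoint A := by
        have h1 : IsClosed ({f z} : Set (Spec (CommRingCat.of A))) := by
          simpa using f.isClosedMap _ hz
        exact (Set.mem_singleton_iff.1 (h1.closure_eq ▸ (IsLocalRing.specializes_closedPoint (f z)).mem_closure)).symm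
      obtain ⟨s, hs⟩ : IsLocalRing.closedPoint A ∈
          Set.range (Spec.map (CommRingCat.ofHom (IsLocalRing.residue A))) :=
        ⟨IsLocalRing.closedPoint _, IsLocalRing.comap_closedPoint (IsLocalRing.residue A)⟩
      obtain ⟨z₀, hz₀, -⟩ := Scheme.Pullback.exists_preimage_pullback z s (hfz.trans hs.symm)
      obtain ⟨v, hv⟩ := π₀.surjective z₀
      refine ⟨((e.inv.left : V₀ ⟶ (R.obj Y).left) ≫ pullback.fst Y.hom j) v, ?_⟩
      have := congrArg (fun m => m v) hpb.w
      exact this.trans ((congrArg j hv).trans hz₀)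
    by_contra hx
    obtain ⟨z, hz, hzc⟩ := @IsClosed.exists_closed_singleton X _ inferInstance inferInstance (Set.range Y.hom)ᶜ hop.isClosed_compl ⟨x, hx⟩
    exact hz (key z hzc)
  exact ⟨Y.left, Y.hom, inferInstance, inferInstance, _, hpb⟩

end Groth.Agent.EtProperH1
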